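import Groth.Agent.Lib.NormalH1.Pieces
import Groth.Agent.Lib.LocalHilb26.Projective
import Groth.Agent.S5005

/-!
# Vanishing of `H¹` of the normal sheaf of a curve in projective space
-/

set_option autoImplicit false
set_option maxHeartbeats 800000
set_option linter.all false
set_option backward.isDefEq.respectTransparency false

universe u

open CategoryTheory CategoryTheory.Limits AlgebraicGeometry Opposite TopologicalSpace
open RefHull (homSh stalkMapₗ)

noncomputable section

namespace GrothLib.NormalH1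

variable (k : Type u) [Field k]

include k in
theorem subsingleton_H1_normal (r : ℕ) (I₀ : (CohB1.ProjSpace r k).IdealSheafData)
    [I₀.subscheme.Over (Spec (CommRingCat.of k))]
    (hX : I₀.subscheme ↘ Spec (CommRingCat.of k) = I₀.subschemeι ≫ CohB1.ProjSpace.toSpec r k)
    (hdim : topologicalKrullDim I₀.subscheme ≤ 1)
    (hnod : Curv2.AtWorstNodal k I₀.subscheme)
    (h1 : Subsingleton (Coh.HH I₀.subscheme
      ((Scheme.Modules.pullback I₀.subschemeι).obj (Twist.twistProjSpace r k 1)) 1))
    [DCoh.HasSheafHom (Omega.conormal I₀.subschemeι)] :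
    Subsingleton (Coh.HH I₀.subscheme
      ((DCoh.sheafHom (Omega.conormal I₀.subschemeι)).obj (Coh.structureModule I₀.subscheme)) 1) := by
  haveI := Chow.isProper_toSpec r k
  haveI : IsProper (I₀.subscheme ↘ Spec (CommRingCat.of k)) := by rw [hX]; infer_instance
  haveI := Euler.isNoetherian_of_proper (X := I₀.subscheme) k
  haveI : IsLocallyNoetherian (CohB1.ProjSpace r k) :=
    LocallyOfFiniteType.isLocallyNoetherian (CohB1.ProjSpace.toSpec r k)
  haveI : Smooth (CohB1.ProjSpace.toSpec r k) := CurveMult.smooth_toSpec r k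
  let j := I₀.subschemeι
  let p := CohB1.ProjSpace.toSpec r k
  haveI : LocallyOfFinitePresentation (j ≫ p) := inferInstance
  haveI : GeometricallyReduced (I₀.subscheme ↘ Spec (CommRingCat.of k)) :=
    NodeEt.geometricallyReduced_of_atWorstNodal (I₀.subscheme ↘ Spec (CommRingCat.of k)) hnod
  haveI : GeometricallyReduced (j ≫ p) :=
    hX ▸ (inferInstance : GeometricallyReduced (I₀.subscheme ↘ Spec (CommRingCat.of k)))
  obtain ⟨hfin, hcl⟩ := finite_compl_smoothLocus k (j ≫ p) hdim
  have hd : OmegaSh.IsUniversal (OmegaSh.dOmega p) := Groth.Agent.S5005.result p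
  let φ := ConStalk4.conormalDiff j (OmegaSh.dOmega p)
  have hφ := ConStalk4.isConormalDiff_conormalDiff j (OmegaSh.dOmega p)
  have hC : Coh.IsCoh (Omega.conormal j) := by
    rw [Omega.conormal, Scheme.IdealSheafData.ker_subschemeι]
    exact LocalHilb26.isCoh_conormal I₀
  let A₁ := (Scheme.Modules.pullback j).obj (Omega.sheaf p)
  have hA₁ : Coh.IsCoh A₁ :=
    Euler.isCoh_of_isFinLocFree (OX.isFinLocFree_pullback j (OmegaPn27.isFinLocFree_omegaP r k))
  have hO := Euler.isCoh_of_isInvertible (Euler.isInvertible_structure (X := I₀.subscheme))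
  let O := Coh.structureModule I₀.subscheme
  let ψ : homSh A₁ O ⟶ homSh (Omega.conormal j) O := LM28.precomp φ O
  have hM : Coh.IsCoh (homSh A₁ O) := HomSh.isCoh_homSh (HomSh.hasRel_of_isCoh hA₁) hO
  have hN : Coh.IsCoh (homSh (Omega.conormal j) O) := HomSh.isCoh_homSh (HomSh.hasRel_of_isCoh hC) hO
  have hsupp : CohB1.support (cokernel ψ) ⊆ ((j ≫ p).smoothLocus : Set I₀.subscheme)ᶜ := fun z hz hs => by
    obtain ⟨ρ, hρ⟩ := LM28.exists_retraction p j hd φ hφ z hs
    exact QCoh.notMem_support_cokernel_of_surjective ψ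
      (LM28.stalk_surjective_precomp hC hA₁ O φ z ρ hρ) hz
  have hQ : Subsingleton (Coh.HH I₀.subscheme (cokernel ψ) 1) :=
    Euler.subsingleton_HH_of_finite_support (cokernel ψ) (hfin.subset hsupp) (fun x hx => hcl x (hsupp hx)) 1 le_rfl
  have hM0 : Subsingleton (Coh.HH I₀.subscheme (homSh A₁ O) 1) := subsingleton_H1_dual_omega k hdim j h1
  have hI : Subsingleton (Coh.HH I₀.subscheme (Abelian.image ψ) 1) :=
    CurveMult.subsingleton_H1_of_epi k hdim (Abelian.factorThruImage ψ) hM0
  have hS := QCoh.shortExact_image_cokernel ψ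
  obtain ⟨e⟩ := LM28.nonempty_homSh_iso_coh (Omega.conormal j) O hC hO
  have hN0 : Subsingleton (Coh.HH I₀.subscheme (homSh (Omega.conormal j) O) 1) :=
    subsingleton_of_forall_eq 0 fun x => by
      obtain ⟨y, rfl⟩ := (Cohom.exact₂ (A := k) hS 1 x).1 (@Subsingleton.elim _ hQ _ _)
      exact (congrArg _ (@Subsingleton.elim _ hI y 0)).trans (map_zero _)
  exact (Euler.hhEquiv (A := k) e 1).symm.toEquiv.subsingleton

end GrothLib.NormalH1
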