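import Groth.Agent.Lib.LM28.Precomp
import Groth.Agent.Lib.LM28.ConRetr
import Groth.Agent.Lib.LineOmega28.Split
import Groth.Agent.Lib.PBDeg17.DualRoots
import Groth.Agent.Lib.CurveMult.GGCurve
import Groth.Agent.Lib.RelProjK.Local
import Groth.Agent.Lib.NodeEt.FieldExtBC
import Groth.Agent.Lib.SepPts.SmoothDense

/-!
# `H¹` of the dual of the restricted cotangent bundle; finite singular locus
-/

set_option autoImplicit false
set_option maxHeartbeats 800000
set_option linter.all false
set_option backward.isDefEq.respectTransparency false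

universe u

open CategoryTheory CategoryTheory.Limits AlgebraicGeometry Opposite TopologicalSpace
open RefHull (homSh stalkMapₗ)
open GrothLib.LocFreeHom (iHom)

noncomputable section

namespace GrothLib.NormalH1

variable (k : Type u) [Field k]

/-- Singular points of a reduced curve form a finite set of closed points. -/
theorem finite_compl_smoothLocus {X : Scheme.{u}} (q : X ⟶ Spec (CommRingCat.of k)) [LocallyOfFinitePresentation q]
    [GeometricallyReduced q] [NoetherianSpace X] (hd : topologicalKrullDim X ≤ 1) :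
    (q.smoothLocus : Set X)ᶜ.Finite ∧ ∀ x ∈ (q.smoothLocus : Set X)ᶜ, IsClosed ({x} : Set X) := by
  have hcl : ∀ x ∈ (q.smoothLocus : Set X)ᶜ, IsClosed ({x} : Set X) := fun x hx =>
    Euler.isClosed_singleton_of_notMem_genericPoints hd fun hg => hx (SepPts.mem_smoothLocus_of_maximal q
      fun w hw => by
        have h1 : closure ({x} : Set X) ⊆ closure {w} :=
          closure_minimal (Set.singleton_subset_iff.2 hw.mem_closure) isClosed_closure
        have h2 : closure {w} ⊆ closure ({x} : Set X) :=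
          (show closure ({x} : Set X) ∈ irreducibleComponents (X : Type u) from hg).2
            isIrreducible_singleton.closure h1
        exact (hw.antisymm (specializes_iff_mem_closure.2 (h2 (subset_closure rfl)))).eq)
  exact ⟨Euler.finite_of_closed_points q.smoothLocus.isOpen.isClosed_compl hcl, hcl⟩

variable {X : Scheme.{u}} [X.Over (Spec (CommRingCat.of k))] [IsProper (X ↘ Spec (CommRingCat.of k))]

theorem hhMap_add (M N : X.Modules) (f g : M ⟶ N) (x : Coh.HH X M 1) :
    Cohom.hhMap k (f + g) 1 x = Cohom.hhMap k f 1 x + Cohom.hhMap k g 1 x := by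
  rw [Cohom.hhMap_apply, Cohom.hhMap_apply, Cohom.hhMap_apply, Cohom.H_map_eq_comp,
    Cohom.H_map_eq_comp, Cohom.H_map_eq_comp, Functor.map_add, Abelian.Ext.mk₀_add]
  exact Abelian.Ext.comp_add (C := Cohom.AbSheaf X) _ _ _ _

include k in
/-- `H¹` of the dual of a finite sum. -/
theorem subsingleton_H1_dual_sum {m : ℕ} (L : X.Modules) (h : Subsingleton (Coh.HH X (RefHull.dual L) 1)) :
    Subsingleton (Coh.HH X (RefHull.dual (∐ fun _ : Fin m => L)) 1) := by
  classical
  refine subsingleton_of_forall_eq 0 fun x => ?_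
  let π : Fin m → ((∐ fun _ : Fin m => L) ⟶ L) := fun l => Sigma.desc fun l' => if l' = l then 𝟙 L else 0
  let ι : Fin m → (L ⟶ ∐ fun _ : Fin m => L) := fun l => Sigma.ι (fun _ : Fin m => L) l
  have htot : ∑ l, π l ≫ ι l = 𝟙 (∐ fun _ : Fin m => L) := by
    refine Sigma.hom_ext _ _ fun l => ?_
    rw [Preadditive.comp_sum, Finset.sum_eq_single l, Category.comp_id]
    · simp [π, ι]
    · intro b _ hb; simp [π, ι, Ne.symm hb]
    · simp
  let H : ((∐ fun _ : Fin m => L) ⟶ ∐ fun _ : Fin m => L) →+ Coh.HH X (RefHull.dual (∐ fun _ : Fin m => L)) 1 :=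
    AddMonoidHom.mk' (fun f => Cohom.hhMap k (LM28.precomp f (Coh.structureModule X)) 1 x)
      fun f g => by rw [LM28.precomp_add, hhMap_add]
  have hx : H (𝟙 _) = x := by
    show Cohom.hhMap k (LM28.precomp (𝟙 _) _) 1 x = x
    rw [LM28.precomp_id]
    exact Euler.hhMap_id (A := k) _ 1 x
  rw [← hx, ← htot, map_sum]
  refine Finset.sum_eq_zero fun l _ => ?_
  show Cohom.hhMap k (LM28.precomp (π l ≫ ι l) _) 1 x = 0
  rw [LM28.precomp_comp, Euler.hhMap_comp]
  exact (congrArg _ (@Subsingleton.elim _ h _ 0)).trans (map_zero _)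

attribute [local instance] LocFreeHom.hasSheafHom

include k in
/-- `H¹` vanishes for the dual of the restricted cotangent bundle of projective space. -/
theorem subsingleton_H1_dual_omega (hd : topologicalKrullDim X ≤ 1) {r : ℕ} (j : X ⟶ CohB1.ProjSpace r k)
    (h1 : Subsingleton (Coh.HH X ((Scheme.Modules.pullback j).obj (Twist.twistProjSpace r k 1)) 1)) :
    Subsingleton (Coh.HH X (RefHull.dual ((Scheme.Modules.pullback j).obj
      (Omega.sheaf (CohB1.ProjSpace.toSpec r k)))) 1) := by
  haveI := Euler.isNoetherian_of_proper (X := X) k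
  haveI := Chow.isProper_toSpec r k
  obtain ⟨a, b, w, hS⟩ := OmegaPn27.exists_euler r (CohB1.ProjSpace.toSpec r k) (ProjPic26.chi r k)
    (ProjPic26.isPullback_chi r k)
  obtain ⟨ν⟩ := OmegaPn27.nonempty_N1 r k
  haveI : (Scheme.Modules.pullback j).Additive :=
    (Scheme.Modules.pullbackPushforwardAdjunction j).left_adjoint_additive
  have hT := K0Sub.shortExact_map_pullback j _ hS
    (Euler.isFinLocFree_of_isInvertible (Euler.isInvertible_structure (X := CohB1.ProjSpace r k)))
  obtain ⟨ps⟩ := LineOmega28.nonempty_pull_sum j (r + 1) (OmegaPn27.N1 r (ProjPic26.chi r k))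
  let L := (Scheme.Modules.pullback j).obj (OmegaPn27.N1 r (ProjPic26.chi r k))
  -- the dual of a line bundle
  have hO1 : PicF.IsInvertible (Twist.twistProjSpace r k 1) := CMReg.isInvertible_twist 1
  have hOm : PicF.IsInvertible (Twist.twistProjSpace r k (-1)) := CMReg.isInvertible_twist (-1)
  have hM := Ample.isInvertible_pullback j hO1
  have hP := Ample.isInvertible_pullback j hOm
  have hL : PicF.IsInvertible L :=
    RelProjK.isInvertible_of_iso ((Scheme.Modules.pullback j).mapIso ν) hP
  have hLd : Subsingleton (Coh.HH X (RefHull.dual L) 1) := by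
    obtain ⟨δ⟩ := LM28.nonempty_homSh_iso L (Coh.structureModule X) (Euler.isFinLocFree_of_isInvertible hL)
      (Euler.isCoh_of_isInvertible Euler.isInvertible_structure)
    obtain ⟨hD, ⟨u⟩⟩ := PBDeg.exists_dual_inverse hL
    obtain ⟨t⟩ := CMReg.nonempty_twist_add (n := r) (k := k) (show (-1 : ℤ) + 1 = 0 by norm_num)
    obtain ⟨t0⟩ := CMReg.nonempty_twist_zero (n := r) (k := k)
    obtain ⟨g⟩ := Ample.nonempty_pullback_tensorMod j hOm hO1
    obtain ⟨g0⟩ := Ample.nonempty_pullback_structureModule j
    have c1 : Cube.clsMod hP * Cube.clsMod hM = 1 := by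
      rw [← Cube.clsMod_tensorMod hP hM]
      exact (Cube.clsMod_eq_one_iff _).2 ⟨g.symm ≪≫ (Scheme.Modules.pullback j).mapIso (t ≪≫ t0) ≪≫ g0⟩
    have c2 : Cube.clsMod hL * Cube.clsMod hD = 1 := by
      rw [← Cube.clsMod_tensorMod hL hD]
      exact (Cube.clsMod_eq_one_iff _).2 ⟨u⟩
    rw [(Cube.clsMod_eq_iff hL hP).2 ⟨(Scheme.Modules.pullback j).mapIso ν⟩] at c2
    obtain ⟨e⟩ := (Cube.clsMod_eq_iff hD hM).1 (mul_left_cancel (c2.trans c1.symm))
    exact (Euler.hhEquiv (A := k) (δ ≪≫ e) 1).toEquiv.subsingleton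
  have hsum := subsingleton_H1_dual_sum k (m := r + 1) L hLd
  have hE : Subsingleton (Coh.HH X (RefHull.dual ((Scheme.Modules.pullback j).obj
      (OmegaPn27.EE r (ProjPic26.chi r k)))) 1) := subsingleton_of_forall_eq 0 fun x => by
    rw [← Euler.hhMap_id (A := k) _ 1 x, ← LM28.precomp_id, ← ps.hom_inv_id, LM28.precomp_comp, Euler.hhMap_comp]
    exact (congrArg _ (@Subsingleton.elim _ hsum _ 0)).trans (map_zero _)
  -- restriction to the subsheaf
  let A₁ := (Scheme.Modules.pullback j).obj (Omega.sheaf (CohB1.ProjSpace.toSpec r k))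
  let A₂ := (Scheme.Modules.pullback j).obj (OmegaPn27.EE r (ProjPic26.chi r k))
  have hA1 : Coh.IsCoh A₁ := Euler.isCoh_of_isFinLocFree
    (OX.isFinLocFree_pullback j (OmegaPn27.isFinLocFree_omegaP r k))
  have hA2 : Coh.IsCoh A₂ := Euler.isCoh_of_isFinLocFree
    (OX.isFinLocFree_pullback j (ModelK.isFinLocFree_tensorMod (A := FlatMod.freeMod _ (r + 1))
      (B := OmegaPn27.N1 r (ProjPic26.chi r k)) (OmegaPn27.isFinLocFree_free (r + 1))
      (Euler.isFinLocFree_of_isInvertible (RelProjK.isInvertible_of_iso ν hOm))))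
  haveI : Epi (LM28.precomp ((Scheme.Modules.pullback j).map a) (Coh.structureModule X)) := by
    refine (OX.epi_iff _).2 fun x => (ModuleCat.epi_iff_surjective _).2 ?_
    obtain ⟨g⟩ := Ample.nonempty_pullback_structureModule j
    let T := ((ShortComplex.mk a b w).map (Scheme.Modules.pullback j)).map (OX.stalk x)
    have hTx : T.ShortExact := hT.map_of_exact (OX.stalk x)
    let e : T.X₃ ≅ (OX.stalk x).obj (Coh.structureModule X) := (OX.stalk x).mapIso g
    haveI : Module.Projective (X.presheaf.stalk x) T.X₃ :=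
      Module.Projective.of_equiv ((HomSh.unitStalk x).trans e.symm.toLinearEquiv)
    obtain ⟨s, hs⟩ := Module.projective_lifting_property T.g.hom LinearMap.id
      ((ModuleCat.epi_iff_surjective T.g).1 hTx.epi_g)
    let spl := ShortComplex.Splitting.ofExactOfSection T hTx.exact (ModuleCat.ofHom s)
      (ModuleCat.hom_ext hs) hTx.mono_f
    exact LM28.stalk_surjective_precomp hA1 hA2 (Coh.structureModule X) _ x spl.r.hom
      fun v => LinearMap.congr_fun (congrArg ModuleCat.Hom.hom spl.f_r) v
  exact CurveMult.subsingleton_H1_of_epi k hd (LM28.precomp ((Scheme.Modules.pullback j).map a) (Coh.structureModule X)) hE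

end GrothLib.NormalH1
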